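import Groth.Agent.Lib.IsogLaw.Sub
import Groth.Agent.Lib.DescAlg.Descends
import Groth.Agent.H1.Classical.FiniteBorel
import Groth.Agent.Lib.GrpSch.DenseDim
import Groth.Agent.Lib.TopDim.Basic

/-!
# Tori and isogenies over an algebraically closed field
-/

set_option autoImplicit false
set_option linter.style.haveILetI false
set_option backward.isDefEq.respectTransparency false
universe u

open CategoryTheory CategoryTheory.Limits MonoidalCategory CartesianMonoidalCategory MonObj GrpObj AlgebraicGeometry
open Groth.Agent.H1.Classical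

namespace Groth.Agent.Lib.IsogLaw

/-- A closed subspace of full dimension of an irreducible variety is everything. -/
theorem surjective_of_dim_eq {k : Type u} [Field k] {T X : Scheme.{u}} (f : X ⟶ Spec (CommRingCat.of k))
    [LocallyOfFiniteType f] [CompactSpace X] [IrreducibleSpace X] (i : T ⟶ X) [IsClosedImmersion i]
    (h : topologicalKrullDim X ≤ topologicalKrullDim T) : Surjective i := by
  refine ⟨fun y => by_contra fun hy => ?_⟩
  let U : Set X := (Set.range i)ᶜ
  have hU : IsOpen U := i.isClosedEmbedding.isClosed_range.isOpen_compl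
  have hlt := GrpSch.topologicalKrullDim_boundary_lt f (C := Set.univ) isClosed_univ hU Set.univ_nonempty
    (fun x _ => ⟨genericPoint X, ⟨by
      refine (PreirreducibleSpace.isPreirreducible_univ (X := X)).open_subset hU (Set.subset_univ _) |> fun _ => ?_
      exact ((genericPoint_spec X).mem_open_set_iff hU).2 ⟨y, trivial, hy⟩, trivial⟩,
      genericPoint_specializes x⟩)
  have h1 : topologicalKrullDim T = topologicalKrullDim ↥(Set.range i) :=
    IsHomeomorph.topologicalKrullDim_eq _ i.isClosedEmbedding.isEmbedding.toHomeomorph.isHomeomorph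
  have h2 : topologicalKrullDim ↥(Set.range i) ≤ topologicalKrullDim ↥((Set.univ : Set X) \ (U ∩ Set.univ)) :=
    TopDim.Basic.topologicalKrullDim_mono (by intro z hz; simp [U, hz])
  exact absurd (h.trans (h1.le.trans h2)) (not_le.2 (hlt.trans_le (topologicalKrullDim_subspace_le X _)))

variable {K : Type u} [Field K] [IsAlgClosed K] {G H : Over (Spec (CommRingCat.of K))} [GrpObj G] [GrpObj H]
    [IsAffine G.left] [IsAffine H.left] [Smooth G.hom] [Smooth H.hom] [ConnectedSpace G.left] [ConnectedSpace H.left]

omit [IsAlgClosed K] [IsAffine G.left] [IsAffine H.left] [Smooth H.hom] [ConnectedSpace H.left] [GrpObj G] [GrpObj H]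
  [ConnectedSpace G.left] in
theorem isIso_of_closed_surjective {T : Over (Spec (CommRingCat.of K))} (i : T ⟶ G) [IsClosedImmersion i.left]
    [Surjective i.left] : IsIso i := by
  haveI : IsReduced G.left := GrpSch.isReduced_of_smooth_field G.hom
  haveI : IsIso ((Over.forget _).map i) := isIso_of_isClosedImmersion_of_surjective i.left
  exact isIso_of_reflects_iso _ (Over.forget _)

theorem exists_mono_torus_iff (f : G ⟶ H) [IsMonHom f] [Surjective f.left] [IsFinite f.left] :
    (Red.IsTorus G → ∃ (T : Over (Spec (CommRingCat.of K))) (_ : GrpObj T) (e : H ≅ T), IsMonHom e.hom ∧ Red.IsTorus T) ∧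
    (Red.IsTorus H → ∃ (T : Over (Spec (CommRingCat.of K))) (_ : GrpObj T) (e : G ≅ T), IsMonHom e.hom ∧ Red.IsTorus T) := by
  have triv : ∀ {V : Over (Spec (CommRingCat.of K))} [GrpObj V], Red.IsTorus V → AGF.IsMaxTorus (𝟙 V) := by
    intro V _ hV
    refine ⟨inferInstance, inferInstance, hV, fun T' _ j _ _ g _ hg => ?_⟩
    haveI : IsSplitEpi j := ⟨⟨g, hg⟩⟩
    haveI : IsIso j := isIso_of_mono_of_isSplitEpi j
    rw [show g = inv j from (IsIso.eq_inv_of_inv_hom_id hg)]
    infer_instance
  constructor
  · intro hG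
    obtain ⟨T, _, iT, p, hT, hp, hps⟩ := IsogenyTorus.exists_image f (𝟙 G) (triv hG)
    haveI := hT.1
    haveI := hT.2.1
    obtain ⟨hc, -, -, -⟩ := TorusPts.torus_props iT hT.2.2.1
    haveI := hc
    haveI : Surjective (p.left ≫ iT.left) := by
      rw [← Over.comp_left, hp, Category.id_comp]
      infer_instance
    haveI : Surjective iT.left := Surjective.of_comp p.left iT.left
    haveI := isIso_of_closed_surjective iT
    exact ⟨T, inferInstance, (asIso iT).symm, (haveI : IsMonHom (asIso iT).hom := (inferInstance : IsMonHom iT); inferInstanceAs (IsMonHom (asIso iT).inv)), hT.2.2.1⟩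
  · intro hH
    obtain ⟨T₀, _, iS, hS⟩ := MaxTorusExists.exists_maxTorus G
    obtain ⟨T, _, iT, p, hT, hp, hps⟩ := IsogenyTorus.exists_image f iS hS
    haveI := hS.1
    haveI := hS.2.1
    haveI := hT.1
    haveI := hT.2.1
    haveI : IsIso iT := hT.2.2.2 H (𝟙 H) iT hH (Category.comp_id _)
    haveI : IsIso iT.left := ((Over.forget _).mapIso (asIso iT)).isIso_hom
    obtain ⟨hc, hs0, hc0, -⟩ := TorusPts.torus_props iS hS.2.2.1
    haveI := hc
    haveI : Surjective (iS ≫ f).left := by rw [← hp, Over.comp_left]; infer_instance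
    haveI : IsFinite (iS ≫ f).left := by rw [Over.comp_left]; infer_instance
    haveI : IrreducibleSpace G.left := Groth.Agent.H1.GrpIrred.irreducibleSpace_of_isAlgClosed (G := G)
    have hd : topologicalKrullDim G.left ≤ topologicalKrullDim T₀.left := by
      rw [AffineCompl.Dim.topologicalKrullDim_of_finite_surjective f.left f.left.surjective,
        ← AffineCompl.Dim.topologicalKrullDim_of_finite_surjective (iS ≫ f).left (iS ≫ f).left.surjective]
    haveI := surjective_of_dim_eq G.hom iS.left hd
    haveI := isIso_of_closed_surjective iS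
    exact ⟨T₀, inferInstance, (asIso iS).symm, (haveI : IsMonHom (asIso iS).hom := (inferInstance : IsMonHom iS); inferInstanceAs (IsMonHom (asIso iS).inv)), hS.2.2.1⟩

omit [IsAlgClosed K] [IsAffine G.left] [IsAffine H.left] [Smooth G.hom] [Smooth H.hom] [ConnectedSpace G.left]
  [ConnectedSpace H.left] in
/-- A covering homomorphism with finite kernel is finite. -/
theorem isFinite_of_kernel (f : G ⟶ H) [IsMonHom f] [Surjective f.left] [Flat f.left] [QuasiCompact f.left]
    {N : Over (Spec (CommRingCat.of K))} {i : N ⟶ G} (hker : AlgGrp.IsKernel i f) [IsFinite N.hom] :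
    IsFinite f.left := by
  haveI : Mono i := ⟨fun a b hab => hker.hom_ext hab (toUnit_unique _ _)⟩
  let P := pullback f f
  let a : P ⟶ G := pullback.fst f f
  let b : P ⟶ G := pullback.snd f f
  have hd : (a⁻¹ * b) ≫ f = toUnit P ≫ η[H] := by
    rw [MonObj.mul_comp _ _ f, GrpObj.inv_comp _ f, show a ≫ f = b ≫ f from pullback.condition, inv_mul_cancel,
      Hom.one_def]
  let φ : P ⟶ G ⊗ N := lift a (hker.lift (a⁻¹ * b) (toUnit P) hd)
  let ψ : G ⊗ N ⟶ P := pullback.lift (fst G N) (fst G N * (snd G N ≫ i)) (by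
    rw [MonObj.mul_comp _ _ f, Category.assoc, hker.w, ← Category.assoc, toUnit_unique (snd G N ≫ toUnit N) (toUnit _),
      ← Hom.one_def, _root_.mul_one])
  have h1 : φ ≫ ψ = 𝟙 P := by
    apply pullback.hom_ext
    · rw [Category.assoc, pullback.lift_fst, lift_fst, Category.id_comp]
    · rw [Category.assoc, pullback.lift_snd, MonObj.comp_mul, lift_fst, lift_snd_assoc, hker.lift_fst,
        mul_inv_cancel_left, Category.id_comp]
  have h2 : ψ ≫ φ = 𝟙 (G ⊗ N) := by
    apply CartesianMonoidalCategory.hom_ext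
    · rw [Category.assoc, lift_fst, pullback.lift_fst, Category.id_comp]
    · rw [Category.assoc, lift_snd, ← cancel_mono i, Category.assoc, hker.lift_fst, MonObj.comp_mul,
        GrpObj.comp_inv, pullback.lift_fst, pullback.lift_snd, inv_mul_cancel_left, Category.id_comp]
  haveI : IsFinite (fst G N).left := GrpSch.fst_left_of (P := @IsFinite) _ ‹_›
  haveI : IsFinite a.left := by
    haveI : IsIso φ.left := ((Over.forget _).mapIso (⟨φ, ψ, h1, h2⟩ : P ≅ G ⊗ N)).isIso_hom
    rw [show a = φ ≫ fst G N from (lift_fst _ _).symm, Over.comp_left]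
    infer_instance
  have sq := (IsPullback.of_hasPullback f f).map (Over.forget _)
  haveI : IsFinite (pullback.fst f.left f.left) := by
    rw [show pullback.fst f.left f.left = sq.isoPullback.inv ≫ a.left from sq.isoPullback_inv_fst.symm]
    exact inferInstanceAs (IsFinite (sq.isoPullback.inv ≫ a.left))
  exact MorphismProperty.of_pullback_fst_of_descendsAlong (P := @IsFinite)
    (Q := @Surjective ⊓ @Flat ⊓ @QuasiCompact) ⟨⟨inferInstance, inferInstance⟩, inferInstance⟩ ‹_›

/-- A torus after extension to the algebraic closure is a torus. -/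
theorem isTorus_of_bc {k : Type u} [Field k] [Algebra k K] {T₀ : Over (Spec (CommRingCat.of k))} [GrpObj T₀]
    {G' : Over (Spec (CommRingCat.of K))} [GrpObj G'] [IsAffine G'.left] [LocallyOfFiniteType G'.hom]
    {T : Over (Spec (CommRingCat.of K))} [GrpObj T] (e : Red.bc (GrpSch.extBase k K) T₀ ≅ T)
    [IsMonHom e.hom] (i : T ⟶ G') [IsMonHom i] [Mono i] (hT : Red.IsTorus T) : Red.IsTorus T₀ := by
  obtain ⟨r, hr⟩ := FiniteBorel.exists_split i hT
  haveI : Flat (GrpSch.extBase k K) := GrpSch.flat_of_isField (Field.toIsField k) _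
  haveI : Surjective (GrpSch.extBase k K) :=
    ⟨fun x => ⟨IsLocalRing.closedPoint K, Subsingleton.elim (α := PrimeSpectrum k) _ _⟩⟩
  refine ⟨Spec (CommRingCat.of K), GrpSch.extBase k K, inferInstance, inferInstance,
    Tori.Basic.isQCCover_of_qc _, fun _ => ⟨⊤, trivial, r, ?_⟩⟩
  exact Tori.Basic.isSplit_congr (Tori.BaseChange.bcComp _ _ _)
    (Tori.Basic.isSplit_bc (Tori.Basic.isSplit_congr (Grp.mkIso' e) hr) _)

end Groth.Agent.Lib.IsogLaw
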