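import Groth.Agent.Lib.GrpQ.Laws
import Groth.Agent.Lib.GrpQ.FlatHom
import Groth.Agent.Lib.GrpQ.ThirdIso
import Groth.Agent.H87.CentralExt
import Groth.Agent.Lib.Flat55.FibreTransfer
import Groth.Agent.S5342
import Mathlib.AlgebraicGeometry.Morphisms.QuasiFinite

/-!
# Group laws along isogenies
-/

set_option autoImplicit false
set_option linter.style.haveILetI false
set_option backward.isDefEq.respectTransparency false
universe u

open CategoryTheory CategoryTheory.Limits MonoidalCategory CartesianMonoidalCategory MonObj GrpObj AlgebraicGeometry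

namespace Groth.Agent.Lib.IsogLaw

variable {k : Type u} [Field k] {G H : Over (Spec (CommRingCat.of k))} [GrpObj G] [GrpObj H]

/-- Precomposition as a homomorphism. -/
noncomputable def pre {X Y : Over (Spec (CommRingCat.of k))} (t : X ⟶ Y) : (Y ⟶ G) →* (X ⟶ G) where
  toFun g := t ≫ g
  map_one' := MonObj.comp_one t
  map_mul' a b := MonObj.comp_mul t a b

/-- A homomorphism on points. -/
noncomputable def post (f : G ⟶ H) [IsMonHom f] (X : Over (Spec (CommRingCat.of k))) : (X ⟶ G) →* (X ⟶ H) where
  toFun g := g ≫ f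
  map_one' := MonObj.one_comp f
  map_mul' a b := MonObj.mul_comp a b f

/-- A morphism from a smooth connected scheme into the finite kernel is trivial if it is so at one point. -/
theorem eq_one_of_comp_eq_one (f : G ⟶ H) [IsFinite f.left] {T : Over (Spec (CommRingCat.of k))}
    [IsReduced T.left] [ConnectedSpace T.left] (e : 𝟙_ (Over (Spec (CommRingCat.of k))) ⟶ T)
    [IsSeparated G.hom] (v : T ⟶ G) (he : e ≫ v = 1) (hv : v ≫ f = 1) : v = 1 := by
  let q : pullback f.left η[H].left ⟶ Spec (CommRingCat.of k) := pullback.snd f.left η[H].left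
  haveI : IsFinite q := MorphismProperty.pullback_snd _ _ ‹_›
  haveI : IsArtinianRing (CommRingCat.of k) := inferInstanceAs (IsArtinianRing k)
  haveI : IsLocallyArtinian (Spec (CommRingCat.of k)) := inferInstance
  haveI := IsLocallyArtinian.of_locallyQuasiFinite q
  haveI : DiscreteTopology ↥(pullback f.left η[H].left) := IsLocallyArtinian.discreteTopology
  have hv' : v.left ≫ f.left = T.hom ≫ η[H].left := by
    have h := congrArg Over.Hom.left hv
    rwa [Over.comp_left, Hom.one_def, Over.comp_left, Over.toUnit_left] at h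
  let w : T.left ⟶ pullback f.left η[H].left := pullback.lift v.left T.hom hv'
  have hw : w ≫ pullback.fst f.left η[H].left = v.left := pullback.lift_fst _ _ _
  let pt : T.left := e.left (IsLocalRing.closedPoint k)
  haveI : IsClosedImmersion η[G].left := by
    haveI : IsClosedImmersion (η[G].left ≫ G.hom) := by
      rw [Over.w η[G]]
      exact inferInstanceAs (IsClosedImmersion (𝟙 _))
    exact IsClosedImmersion.of_comp η[G].left G.hom
  have hrange : ∀ y : T.left, v.left y ∈ Set.range η[G].left := by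
    intro y
    have h1 : w y = w pt := PreconnectedSpace.constant inferInstance w.continuous
    have h2 : v.left y = v.left pt := by
      rw [← hw, Scheme.Hom.comp_apply, Scheme.Hom.comp_apply, h1]
    refine ⟨(IsLocalRing.closedPoint k : Spec (CommRingCat.of k)), ?_⟩
    rw [h2]
    have h3 := congrArg Over.Hom.left he
    rw [Over.comp_left, Hom.one_def, Over.comp_left, toUnit_unique (toUnit _) (𝟙 _), Over.id_left, Category.id_comp] at h3
    exact (congr($h3 (IsLocalRing.closedPoint k : Spec (CommRingCat.of k)))).symm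
  let p : pullback η[G].left v.left ⟶ T.left := pullback.snd η[G].left v.left
  haveI : IsClosedImmersion p := MorphismProperty.pullback_snd _ _ ‹_›
  haveI : Surjective p := ⟨fun y => by
    obtain ⟨a, ha⟩ := hrange y
    obtain ⟨z, -, hz⟩ := Scheme.Pullback.exists_preimage_pullback (f := η[G].left) (g := v.left) a y ha
    exact ⟨z, hz⟩⟩
  haveI := isIso_of_isClosedImmersion_of_surjective p
  let s : T.left ⟶ Spec (CommRingCat.of k) := inv p ≫ pullback.fst η[G].left v.left
  have hs : s ≫ η[G].left = v.left := by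
    simp only [s, p, Category.assoc, pullback.condition, IsIso.inv_hom_id_assoc]
  have hsT : s = T.hom := by
    have h : s ≫ η[G].left ≫ G.hom = v.left ≫ G.hom := by rw [← Category.assoc, hs]
    rw [Over.w η[G], Over.w v] at h
    exact (Category.comp_id s).symm.trans h
  refine Over.OverMorphism.ext ?_
  rw [Hom.one_def, Over.comp_left, Over.toUnit_left, ← hs, hsT]

/-- Smooth connected test objects with a rational point carrying tautological points. -/
theorem exists_power (G : Over (Spec (CommRingCat.of k))) [GrpObj G] [Smooth G.hom] [ConnectedSpace G.left] :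
    ∀ m : ℕ, ∃ (P : Over (Spec (CommRingCat.of k))) (_ : Smooth P.hom) (_ : ConnectedSpace P.left)
      (e : 𝟙_ (Over (Spec (CommRingCat.of k))) ⟶ P) (π : Fin m → (P ⟶ G)), (∀ i, e ≫ π i = 1) ∧
      ∀ (T : Over (Spec (CommRingCat.of k))) (v : Fin m → (T ⟶ G)), ∃ f : T ⟶ P, ∀ i, f ≫ π i = v i
  | 0 => ⟨𝟙_ (Over (Spec (CommRingCat.of k))), inferInstanceAs (Smooth (𝟙 _)),
      inferInstanceAs (ConnectedSpace (PrimeSpectrum k)), 𝟙 _, Fin.elim0, fun i => i.elim0,
      fun T _ => ⟨toUnit T, fun i => i.elim0⟩⟩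
  | m + 1 => by
    obtain ⟨P, hP, hPc, e, π, he, h⟩ := exists_power G m
    haveI : Smooth (fst P G).left := GrpSch.fst_left_of P (P := @Smooth) ‹_›
    haveI : ConnectedSpace (P ⊗ G).left := Groth.Agent.S5342.result k P.left G.left P.hom G.hom e.left (Over.w e)
    refine ⟨P ⊗ G, by rw [← Over.w (fst P G)]; infer_instance, inferInstance,
      CartesianMonoidalCategory.lift e η[G],
      Fin.snoc (fun i => fst P G ≫ π i) (snd P G), fun i => ?_, fun T v => ?_⟩
    · induction i using Fin.lastCases with
      | last => rw [Fin.snoc_last, lift_snd, Hom.one_def, toUnit_unique (toUnit _) (𝟙 _), Category.id_comp]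
      | cast i => rw [Fin.snoc_castSucc, lift_fst_assoc, he]
    · obtain ⟨f, hf⟩ := h T fun i => v i.castSucc
      refine ⟨CartesianMonoidalCategory.lift f (v (Fin.last m)), fun i => ?_⟩
      induction i using Fin.lastCases with
      | last => rw [Fin.snoc_last, lift_snd]
      | cast i => rw [Fin.snoc_castSucc, lift_fst_assoc, hf]

/-- A law of the target of a homomorphism with finite kernel holds on a smooth connected source. -/
theorem law_source [Smooth G.hom] [IsSeparated G.hom] [ConnectedSpace G.left] (f : G ⟶ H) [IsMonHom f]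
    [IsFinite f.left] {idx : Type} [Finite idx]
    (F : ∀ {Γ : Type u} [Group Γ], (idx → Γ) → Γ)
    (hF : ∀ {Γ Γ' : Type u} [Group Γ] [Group Γ'] (φ : Γ →* Γ') (v : idx → Γ), φ (F v) = F (φ ∘ v))
    (hH : ∀ (T : Over (Spec (CommRingCat.of k))) (v : idx → (T ⟶ H)), F v = 1)
    (T : Over (Spec (CommRingCat.of k))) (v : idx → (T ⟶ G)) : F v = 1 := by
  obtain ⟨m, ⟨ix⟩⟩ := Finite.exists_equiv_fin idx
  obtain ⟨P, hP, hPc, e, π, he, hπ⟩ := exists_power G m
  haveI : IsReduced P.left := GrpSch.isReduced_of_smooth_field P.hom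
  have h1 : F (fun a => π (ix a)) = 1 := by
    refine eq_one_of_comp_eq_one f e _ ?_ ((hF (post f P) _).trans (hH _ _))
    have hv0 : (pre e ∘ fun a => π (ix a) : idx → (𝟙_ (Over (Spec (CommRingCat.of k))) ⟶ G)) = fun _ => 1 :=
      funext fun a => he (ix a)
    refine ((hF (pre (G := G) e) _).trans (congrArg F hv0)).trans ?_
    let φ : (𝟙_ (Over (Spec (CommRingCat.of k))) ⟶ G) →* (𝟙_ (Over (Spec (CommRingCat.of k))) ⟶ G) := 1
    have h2 := hF φ (fun _ : idx => (1 : 𝟙_ (Over (Spec (CommRingCat.of k))) ⟶ G))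
    exact h2.symm
  obtain ⟨g, hg⟩ := hπ T fun a => v (ix.symm a)
  have h2 := hF (pre (G := G) g) (fun a => π (ix a))
  rw [h1, map_one] at h2
  have h3 : (pre g ∘ fun a => π (ix a)) = v := funext fun a => by
    show g ≫ π (ix a) = v a
    rw [hg, Equiv.symm_apply_apply]
  rw [h3] at h2
  exact h2.symm

/-- Finitely many points lift along a covering. -/
theorem exists_lifts (f : G ⟶ H) [Flat f.left] [Surjective f.left] [LocallyOfFinitePresentation f.left] :
    ∀ (m : ℕ) (T : Over (Spec (CommRingCat.of k))) (v : Fin m → (T ⟶ H)),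
      ∃ (T' : Over (Spec (CommRingCat.of k))) (c : T' ⟶ T) (w : Fin m → (T' ⟶ G)),
        (∀ i, w i ≫ f = c ≫ v i) ∧ Epi c
  | 0, T, _ => ⟨T, 𝟙 T, Fin.elim0, fun i => i.elim0, inferInstance⟩
  | m + 1, T, v => by
    obtain ⟨T', c, w, hw, hc⟩ := exists_lifts f m T fun i => v i.castSucc
    obtain ⟨T'', c', x, hx, _, _, _⟩ := GrpQ.ThirdIso.exists_lift f (c ≫ v (Fin.last m))
    haveI := H87.CentralExt.epi_of_cover c'
    refine ⟨T'', c' ≫ c, Fin.snoc (fun i => c' ≫ w i) x, fun i => ?_, epi_comp _ _⟩
    induction i using Fin.lastCases with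
    | last => rw [Fin.snoc_last, hx, Category.assoc]
    | cast i => rw [Fin.snoc_castSucc, Category.assoc, hw, Category.assoc]

/-- A law of the source of a covering homomorphism holds on the target. -/
theorem law_target (f : G ⟶ H) [IsMonHom f] [Flat f.left] [Surjective f.left]
    [LocallyOfFinitePresentation f.left] {idx : Type} [Finite idx]
    (F : ∀ {Γ : Type u} [Group Γ], (idx → Γ) → Γ)
    (hF : ∀ {Γ Γ' : Type u} [Group Γ] [Group Γ'] (φ : Γ →* Γ') (v : idx → Γ), φ (F v) = F (φ ∘ v))
    (hG : ∀ (T : Over (Spec (CommRingCat.of k))) (v : idx → (T ⟶ G)), F v = 1)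
    (T : Over (Spec (CommRingCat.of k))) (v : idx → (T ⟶ H)) : F v = 1 := by
  obtain ⟨m, ⟨ix⟩⟩ := Finite.exists_equiv_fin idx
  obtain ⟨T', c, w, hw, hc⟩ := exists_lifts f m T fun a => v (ix.symm a)
  have h1 := hF (post f T') (fun a => w (ix a))
  rw [hG, map_one] at h1
  have h2 : (post f T' ∘ fun a => w (ix a)) = pre (G := H) c ∘ v := funext fun a => by
    show w (ix a) ≫ f = c ≫ v a
    rw [hw, Equiv.symm_apply_apply]
  rw [h2, ← hF (pre (G := H) c) v] at h1
  rw [← cancel_epi c, MonObj.comp_one]
  exact h1.symm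

end Groth.Agent.Lib.IsogLaw
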