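import Groth.Agent.Lib.IsogLaw.TorusIff
import Groth.Agent.Lib.GenSub.Basic
import Mathlib.AlgebraicGeometry.Group.Smooth
import Groth.Agent.Lib.GrpQ.Image
import Groth.Agent.Lib.GenSub.ImageMap
import Groth.Agent.Lib.FreeRes.SubGrp
import Groth.Agent.S7982
import Groth.Agent.S7983

/-!
# Joins of smooth connected normal subgroups with a property stable under extensions and quotients
-/

set_option autoImplicit false
set_option linter.style.haveILetI false
set_option backward.isDefEq.respectTransparency false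
universe u

open CategoryTheory CategoryTheory.Limits MonoidalCategory CartesianMonoidalCategory MonObj GrpObj AlgebraicGeometry

namespace Groth.Agent.Lib.IsogLaw.PropNormal

variable {k : Type u} [Field k] {G A B : Over (Spec (CommRingCat.of k))} [GrpObj G] [GrpObj A] [GrpObj B]
  (Pr : ∀ (E : Over (Spec (CommRingCat.of k))) [GrpObj E], Prop)
  (hPa : ∀ (N E Q : Over (Spec (CommRingCat.of k))) [GrpObj N] [GrpObj E] [GrpObj Q]
      [LocallyOfFiniteType N.hom] [QuasiCompact N.hom] [LocallyOfFiniteType E.hom] [QuasiCompact E.hom] [LocallyOfFiniteType Q.hom] [QuasiCompact Q.hom]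
      (i : N ⟶ E) (q : E ⟶ Q) [IsMonHom i] [IsMonHom q] [Flat q.left] [Surjective q.left],
      AlgGrp.IsKernel i q → Pr N → Pr Q → Pr E)
  (hPb : ∀ (E Q : Over (Spec (CommRingCat.of k))) [GrpObj E] [GrpObj Q] [LocallyOfFiniteType E.hom] [QuasiCompact E.hom] [LocallyOfFiniteType Q.hom] [QuasiCompact Q.hom]
      (q : E ⟶ Q) [IsMonHom q] [Flat q.left] [Surjective q.left], Pr E → Pr Q)

include hPa hPb in
/-- Two smooth connected normal subgroups with the property lie in a third one. -/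
theorem exists_join [LocallyOfFiniteType G.hom] [QuasiCompact G.hom] (a : A ⟶ G) [IsMonHom a] [IsClosedImmersion a.left]
    (b : B ⟶ G) [IsMonHom b] [IsClosedImmersion b.left] [Smooth A.hom] [Smooth B.hom]
    [ConnectedSpace A.left] [ConnectedSpace B.left]
    (ha : AlgGrp.IsNormalHom a) (hb : AlgGrp.IsNormalHom b) (hA : Pr A) (hB : Pr B) :
    ∃ (C : Over (Spec (CommRingCat.of k))) (_ : GrpObj C) (c : C ⟶ G), IsMonHom c ∧ IsClosedImmersion c.left ∧
      Smooth C.hom ∧ ConnectedSpace C.left ∧ Pr C ∧ AlgGrp.IsNormalHom c ∧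
      (∃ f : A ⟶ C, f ≫ c = a) ∧ ∃ g : B ⟶ C, g ≫ c = b := by
  haveI : QuasiCompact A.hom := by rw [← Over.w a]; infer_instance
  haveI : QuasiCompact B.hom := by rw [← Over.w b]; infer_instance
  haveI : IsSeparated G.hom := GrpSch.isSeparated_of_field G
  haveI : Mono a := Over.mono_of_mono_left a
  obtain ⟨P, ⟨eP⟩⟩ : ∃ P, Nonempty (P ≅ A ⊗ B) := ⟨_, ⟨Iso.refl _⟩⟩
  let q1 : P ⟶ A := eP.hom ≫ fst A B
  let q2 : P ⟶ B := eP.hom ≫ snd A B
  let emb : P ⟶ G ⊗ B := lift ((q1 ≫ a) * (q2 ≫ b)) q2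
  have hemb : ∀ {T : Over (Spec (CommRingCat.of k))} (x : T ⟶ A) (y : T ⟶ B),
      (lift x y ≫ eP.inv) ≫ emb = lift ((x ≫ a) * (y ≫ b)) y := fun x y => by
    simp [emb, q1, q2, comp_lift, MonObj.comp_mul]
  have hG : ∀ {T : Over (Spec (CommRingCat.of k))} (p q : T ⟶ G) (s t : T ⟶ B),
      lift p s * lift q t = lift (p * q) (s * t) := fun p q s t => by
    apply CartesianMonoidalCategory.hom_ext
    · rw [MonObj.mul_comp, lift_fst, lift_fst, lift_fst]
    · rw [MonObj.mul_comp, lift_snd, lift_snd, lift_snd]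
  have hG1 : ∀ {T : Over (Spec (CommRingCat.of k))}, lift (1 : T ⟶ G) (1 : T ⟶ B) = 1 := by
    intro T
    apply CartesianMonoidalCategory.hom_ext
    · rw [lift_fst, MonObj.one_comp]
    · rw [lift_snd, MonObj.one_comp]
  have hxy : ∀ {T : Over (Spec (CommRingCat.of k))} (z : T ⟶ P), z = lift (z ≫ q1) (z ≫ q2) ≫ eP.inv :=
    fun z => by rw [Iso.eq_comp_inv]; apply CartesianMonoidalCategory.hom_ext <;> simp [q1, q2]
  haveI : Mono emb := ⟨fun {T} x y hab => by
    rw [hxy x, hxy y, hemb, hemb] at hab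
    have h2 := congrArg (· ≫ snd G B) hab
    simp only [lift_snd] at h2
    have h1 := congrArg (· ≫ fst G B) hab
    simp only [lift_fst] at h1
    rw [h2] at h1
    rw [hxy x, hxy y, h2, (cancel_mono a).mp (mul_right_cancel h1)]⟩
  obtain ⟨_, hm⟩ := FreeRes.exists_grpObj_of_mono emb
    (fun T => ⟨lift 1 1 ≫ eP.inv, by rw [hemb, MonObj.one_comp a, MonObj.one_comp b, _root_.one_mul, hG1]⟩)
    (fun {T} x y => by
      obtain ⟨h', hh'⟩ := ha T ((x ≫ q2) ≫ b) (y ≫ q1)
      refine ⟨lift (x ≫ q1 * h') ((x ≫ q2) * (y ≫ q2)) ≫ eP.inv, ?_⟩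
      conv_rhs => rw [hxy x, hxy y, hemb, hemb, hG]
      rw [hemb, MonObj.mul_comp _ _ a, MonObj.mul_comp _ _ b, ← hh']
      congr 1
      group)
    (fun {T} x => by
      obtain ⟨h', hh'⟩ := ha T ((x ≫ q2) ≫ b)⁻¹ (x ≫ q1)⁻¹
      refine ⟨lift h' (x ≫ q2)⁻¹ ≫ eP.inv, ?_⟩
      conv_rhs => rw [hxy x, hemb]
      refine eq_inv_of_mul_eq_one_left ?_
      rw [hemb, hG, inv_mul_cancel, ← hh', GrpObj.inv_comp _ a, GrpObj.inv_comp _ b, ← hG1]
      congr 1
      group)
  haveI := hm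
  haveI : Smooth (A ⊗ B).hom := inferInstanceAs (Smooth (Limits.pullback.fst A.hom B.hom ≫ A.hom))
  haveI : ConnectedSpace (A ⊗ B).left := Groth.Agent.S5342.result k A.left B.left A.hom B.hom η[A].left (Over.w η[A])
  haveI : IsIso eP.hom.left := ((Over.forget _).mapIso eP).isIso_hom
  haveI : Smooth P.hom := by rw [← Over.w eP.hom]; infer_instance
  obtain ⟨hP⟩ : Nonempty ((A ⊗ B).left ≃ₜ P.left) := ⟨(Scheme.homeoOfIso ((Over.forget _).mapIso eP)).symm⟩
  haveI : ConnectedSpace P.left := hP.surjective.connectedSpace hP.continuous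
  haveI : QuasiCompact P.hom := by rw [← Over.w eP.hom]; haveI : QuasiCompact (A ⊗ B).hom := inferInstanceAs (QuasiCompact (Limits.pullback.fst A.hom B.hom ≫ A.hom)); infer_instance
  have hq2 : q2 = emb ≫ snd G B := (lift_snd _ _).symm
  haveI : IsMonHom q2 := by rw [hq2]; infer_instance
  haveI : Surjective A.hom := ⟨fun y => ⟨η[A].left y, by
    rw [← Scheme.Hom.comp_apply, Over.w η[A]]; rfl⟩⟩
  haveI : Flat A.hom := inferInstance
  haveI : Surjective q2.left := by
    haveI := GrpSch.snd_left_of (P := @Surjective) (X := A) B ‹_›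
    rw [Over.comp_left]; infer_instance
  haveI : Flat q2.left := by
    haveI := GrpSch.snd_left_of (P := @Flat) (X := A) B ‹_›
    rw [Over.comp_left]; infer_instance
  let ν : A ⟶ P := lift (𝟙 A) 1 ≫ eP.inv
  have hν1 : ν ≫ q1 = 𝟙 A := by simp [ν, q1]
  have hν2 : ν ≫ q2 = toUnit A ≫ η[B] := by simp [ν, q2, Hom.one_def]
  have hνe : ν ≫ emb = lift a 1 := by
    rw [hemb, Category.id_comp, MonObj.one_comp b, _root_.mul_one]
  have hνd : ν = lift (𝟙 A) 1 ≫ eP.inv := rfl
  clear_value ν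
  haveI : IsMonHom ν := Groth.Agent.H87.HomDS.isMonHom_of_points ν fun X x y => by
    rw [← cancel_mono emb, MonObj.mul_comp _ _ emb, Category.assoc, Category.assoc, Category.assoc, hνe,
      comp_lift, comp_lift, comp_lift, hG, MonObj.comp_one, MonObj.comp_one, MonObj.comp_one, _root_.one_mul,
      MonObj.mul_comp _ _ a]
  have hker : AlgGrp.IsKernel ν q2 := by
    have hfac : ∀ s : PullbackCone q2 η[B], (s.fst ≫ q1) ≫ ν = s.fst := fun s => by
      conv_rhs => rw [hxy s.fst, s.condition, toUnit_unique s.snd (toUnit _), ← Hom.one_def]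
      rw [hνd, ← Category.assoc, comp_lift, Category.comp_id, MonObj.comp_one]
    exact ⟨⟨hν2⟩, ⟨PullbackCone.IsLimit.mk hν2 (fun s => s.fst ≫ q1) hfac (fun s => toUnit_unique _ _)
      (fun s m h1 _ => by rw [← h1, Category.assoc, hν1, Category.comp_id])⟩⟩
  have hPP : Pr P := hPa A P B ν q2 hker hA hB
  let u : P ⟶ G := emb ≫ fst G B
  have hu : ∀ {T : Over (Spec (CommRingCat.of k))} (x : T ⟶ A) (y : T ⟶ B),
      (lift x y ≫ eP.inv) ≫ u = (x ≫ a) * (y ≫ b) :=
    fun x y => by rw [← Category.assoc, hemb, lift_fst]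
  haveI : IsMonHom u := inferInstanceAs (IsMonHom (emb ≫ fst G B))
  haveI : IsReduced P.left := GrpSch.isReduced_of_smooth_field P.hom
  obtain ⟨C, _, p, c, hp, hc, hpc, hstd, hcc⟩ := GrpQ.Image.exists_image u
  haveI := hp
  haveI := hc
  haveI : Mono c := Over.mono_of_mono_left c
  haveI : LocallyOfFiniteType C.hom := by rw [← Over.w c]; infer_instance
  haveI : QuasiCompact C.hom := by rw [← Over.w c]; infer_instance
  haveI : IsReduced C.left := by
    haveI : QuasiCompact p.left := GrpQ.quasiCompact_left p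
    exact ⟨fun W => isReduced_of_injective (p.left.app W).hom (p.left.app_injective W)⟩
  haveI : QuasiCompact p.left := GrpQ.quasiCompact_left p
  haveI : GeometricallyReduced P.hom := GrpSch.geometricallyReduced_of_smooth_field P.hom
  haveI : GeometricallyReduced C.hom := GenSub.geometricallyReduced_of_dense C fun O hO => by
    obtain ⟨y, hy⟩ := p.left.denseRange.exists_mem_open O.2 hO
    exact ⟨P, p, inferInstance, y, hy⟩
  haveI : GrpObj (Over.mk C.hom) := inferInstanceAs (GrpObj C)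
  haveI : Smooth C.hom := smooth_of_grpObj C.hom
  haveI : IsSeparated C.hom := GrpSch.isSeparated_of_field C
  have hclosed : IsClosed (Set.range p.left) := GenSub.isClosed_range_of_map p μ[P]
    (IsMonHom.mul_hom p) η[P] GrpObj.inv (by
      have h : (𝟙 P)⁻¹ ≫ p = p⁻¹ := by rw [GrpObj.inv_comp (𝟙 P) p, Category.id_comp]
      simpa [Hom.inv_def] using h)
  haveI : Surjective p.left := ⟨by
    rw [← Set.range_eq_univ, ← hclosed.closure_eq]
    exact p.left.denseRange.closure_range⟩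
  haveI : Flat p.left := GrpQ.flat_of_surjective_of_smooth p
  haveI : LocallyOfFinitePresentation p.left :=
    Flat55.FibreTransfer.locallyOfFinitePresentation_of_comp (g := C.hom)
      (by rw [Over.w p]; infer_instance) inferInstance
  obtain ⟨-, -, hcon⟩ := Groth.Agent.S7983.result k P C p
  have hPC : Pr C := hPb P C p hPP
  refine ⟨C, inferInstance, c, hc, hcc, inferInstance, hcon inferInstance, hPC, fun T g x => ?_,
    ⟨(lift (𝟙 A) 1 ≫ eP.inv) ≫ p, by rw [Category.assoc, hpc, hu, MonObj.one_comp b, _root_.mul_one, Category.id_comp]⟩,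
    ⟨(lift 1 (𝟙 B) ≫ eP.inv) ≫ p, by rw [Category.assoc, hpc, hu, MonObj.one_comp a, _root_.one_mul, Category.id_comp]⟩⟩
  obtain ⟨T', e, y, hy, _, _, _⟩ := GrpQ.ThirdIso.exists_lift p x
  obtain ⟨x', hx'⟩ := ha T' (e ≫ g) (y ≫ q1)
  obtain ⟨y', hy'⟩ := hb T' (e ≫ g) (y ≫ q2)
  have hconj : e ≫ (g * (x ≫ c) * g⁻¹) = ((lift x' y' ≫ eP.inv) ≫ p) ≫ c := by
    rw [Category.assoc, hpc, hu, ← hx', ← hy', MonObj.comp_mul, MonObj.comp_mul, GrpObj.comp_inv,
      ← Category.assoc e x c, ← hy, Category.assoc, hpc]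
    conv_lhs => rw [hxy y, hu]
    group
  obtain ⟨w, hw⟩ := H87.CentralExt.exists_desc e ((lift x' y' ≫ eP.inv) ≫ p) fun W s t hst => by
    rw [← cancel_mono c, Category.assoc, Category.assoc t, ← hconj, ← Category.assoc, hst, Category.assoc]
  haveI := H87.CentralExt.epi_of_cover e
  refine ⟨w, ?_⟩
  rw [← cancel_epi e, hconj, ← hw, Category.assoc]

include hPa hPb in
/-- The largest smooth connected normal subgroup with the property. -/
theorem exists_largest [LocallyOfFiniteType G.hom] [QuasiCompact G.hom]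
    (h0 : ∃ (E : Over (Spec (CommRingCat.of k))) (_ : GrpObj E) (j : E ⟶ G), IsMonHom j ∧ IsClosedImmersion j.left ∧
      Smooth E.hom ∧ ConnectedSpace E.left ∧ AlgGrp.IsNormalHom j ∧ Pr E) :
    ∃ (N : Over (Spec (CommRingCat.of k))) (_ : GrpObj N) (i : N ⟶ G), (IsMonHom i ∧ IsClosedImmersion i.left ∧
      Smooth N.hom ∧ ConnectedSpace N.left ∧ Pr N ∧ AlgGrp.IsNormalHom i) ∧
      ∀ (N' : Over (Spec (CommRingCat.of k))) [GrpObj N'] (i' : N' ⟶ G) [IsMonHom i'] [IsClosedImmersion i'.left]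
        [Smooth N'.hom] [ConnectedSpace N'.left], AlgGrp.IsNormalHom i' → Pr N' → ∃ f : N' ⟶ N, f ≫ i = i' := by
  classical
  haveI : IsSeparated G.hom := GrpSch.isSeparated_of_field G
  haveI : CompactSpace G.left := QuasiCompact.compactSpace_of_compactSpace G.hom
  haveI : QuasiSober ↥(Set.univ : Set G.left) := isClosed_univ.isClosedEmbedding_subtypeVal.quasiSober
  have hfin : topologicalKrullDim G.left < ⊤ := by
    rw [← IsHomeomorph.topologicalKrullDim_eq _ (Homeomorph.Set.univ G.left).isHomeomorph,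
      GrpSch.topologicalKrullDim_eq_krullDim_subset]
    exact lt_of_le_of_lt (Order.krullDim_le_of_strictMono Subtype.val fun _ _ h => h) (GrpSch.chain_length_lt_top G.hom)
  obtain ⟨C₀, i₀, c₀, e1, e2, e3, e4, e5, e6⟩ := h0
  have hc₀ := And.intro e1 (And.intro e2 (And.intro e3 (And.intro e4 (And.intro e6 e5))))
  have hnat : ∀ (C : Over (Spec (CommRingCat.of k))) (c : C ⟶ G), IsClosedImmersion c.left → ConnectedSpace C.left →
      ∃ n : ℕ, topologicalKrullDim C.left = (n : WithBot ℕ∞) ∧ (n : WithBot ℕ∞) ≤ topologicalKrullDim G.left := by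
    intro C c hc hC
    have h1 : topologicalKrullDim C.left ≤ topologicalKrullDim G.left :=
      c.left.isClosedEmbedding.isEmbedding.isInducing.topologicalKrullDim_le
    have h0 : 0 ≤ topologicalKrullDim C.left := Lib.TopDim.Basic.topologicalKrullDim_nonneg
    have h2 := lt_of_le_of_lt h1 hfin
    revert h0 h1 h2
    generalize topologicalKrullDim C.left = d
    intro h1 h0 h2
    match d, h0, h2 with
    | ⊥, h0, _ => exact absurd h0 (not_le.2 (WithBot.bot_lt_coe _))
    | ((⊤ : ℕ∞) : WithBot ℕ∞), _, h2 => exact absurd h2 (lt_irrefl _)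
    | ((n : ℕ) : ℕ∞), _, _ => exact ⟨n, rfl, h1⟩
  let P : ℕ → Prop := fun n => ∃ (C : Over (Spec (CommRingCat.of k))) (_ : GrpObj C) (c : C ⟶ G),
    (IsMonHom c ∧ IsClosedImmersion c.left ∧ Smooth C.hom ∧ ConnectedSpace C.left ∧ Pr C ∧
      AlgGrp.IsNormalHom c) ∧ topologicalKrullDim C.left = (n : WithBot ℕ∞)
  obtain ⟨m, hm⟩ : ∃ m : ℕ, topologicalKrullDim G.left ≤ (m : WithBot ℕ∞) := by
    revert hfin
    generalize topologicalKrullDim G.left = d
    intro h
    match d, h with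
    | ⊥, _ => exact ⟨0, bot_le⟩
    | ((⊤ : ℕ∞) : WithBot ℕ∞), h => exact absurd h (lt_irrefl _)
    | ((n : ℕ) : ℕ∞), _ => exact ⟨n, le_rfl⟩
  obtain ⟨n₀, hn₀, hn₀'⟩ := hnat C₀ c₀ hc₀.2.1 hc₀.2.2.2.1
  have hbound : n₀ ≤ m := by exact_mod_cast hn₀'.trans hm
  obtain ⟨N, _, i, hN, hdim⟩ := Nat.findGreatest_spec (P := P) hbound ⟨C₀, i₀, c₀, hc₀, hn₀⟩
  refine ⟨N, inferInstance, i, hN, fun N' _ i' _ _ _ _ hn' hPN' => ?_⟩
  obtain ⟨hi, hic, hs, hcn, hPN, hnor⟩ := hN
  obtain ⟨C, _, c, hc, hcc, hCs, hCc, hCa, hCn, ⟨f, hf⟩, ⟨g, hg⟩⟩ := exists_join Pr hPa hPb i i' hnor hn' hPN hPN'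
  obtain ⟨n, hn, hn2⟩ := hnat C c hcc hCc
  have hnm : n ≤ m := by exact_mod_cast hn2.trans hm
  have hle : topologicalKrullDim C.left ≤ topologicalKrullDim N.left := by
    rw [hn, hdim]
    exact_mod_cast Nat.le_findGreatest (P := P) hnm ⟨C, inferInstance, c, ⟨hc, hcc, hCs, hCc, hCa, hCn⟩, hn⟩
  haveI : IsClosedImmersion f.left := by
    haveI : IsClosedImmersion (f.left ≫ c.left) := by rw [← Over.comp_left, hf]; infer_instance
    exact IsClosedImmersion.of_comp f.left c.left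
  haveI : QuasiCompact C.hom := by rw [← Over.w c]; infer_instance
  haveI : CompactSpace C.left := QuasiCompact.compactSpace_of_compactSpace C.hom
  haveI : IrreducibleSpace C.left := Groth.Agent.H1.GrpIrred.irreducibleSpace (G := C)
  haveI := surjective_of_dim_eq C.hom f.left hle
  haveI : IsReduced C.left := GrpSch.isReduced_of_smooth_field C.hom
  haveI : IsIso f.left := isIso_of_isClosedImmersion_of_surjective f.left
  haveI : IsIso ((Over.forget _).map f) := inferInstanceAs (IsIso f.left)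
  haveI : IsIso f := isIso_of_reflects_iso _ (Over.forget _)
  exact ⟨g ≫ inv f, by rw [← hg, Category.assoc, ← hf, IsIso.inv_hom_id_assoc]⟩

end Groth.Agent.Lib.IsogLaw.PropNormal
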