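import Groth.Agent.Lib.IsogLaw.Basic
import Groth.Agent.H1.Classical.IsogenyTorus
import Groth.Agent.H1.Classical.FieldDescent

/-!
# Subtori along isogenies
-/

set_option autoImplicit false
set_option linter.style.haveILetI false
set_option backward.isDefEq.respectTransparency false
universe u

open CategoryTheory CategoryTheory.Limits MonoidalCategory CartesianMonoidalCategory MonObj GrpObj AlgebraicGeometry
open Groth.Agent.H1.Classical

namespace Groth.Agent.Lib.IsogLaw

theorem hasNoSubtorus_iff_of_isogeny {K : Type u} [Field K] [IsAlgClosed K]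
    {G H : Over (Spec (CommRingCat.of K))} [GrpObj G] [GrpObj H] [IsAffine G.left] [IsAffine H.left]
    [Smooth G.hom] [Smooth H.hom] [ConnectedSpace G.left] [ConnectedSpace H.left]
    (f : G ⟶ H) [IsMonHom f] [Surjective f.left] [IsFinite f.left] :
    Red.HasNoSubtorus K G ↔ Red.HasNoSubtorus K H := by
  obtain ⟨T₀, _, iS, hS⟩ := MaxTorusExists.exists_maxTorus G
  obtain ⟨T, _, iT, p, hT, hp, hps⟩ := IsogenyTorus.exists_image f iS hS
  haveI := hS.1
  haveI := hS.2.1
  haveI := hT.1
  haveI := hT.2.1
  have key : ∀ {V W : Over (Spec (CommRingCat.of K))} [GrpObj V] [GrpObj W] (i : V ⟶ W) (_ : AGF.IsMaxTorus i),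
      Red.IsTrivialGrp V → Red.HasNoSubtorus K W := by
    intro V W _ _ i hi hV T' _ j _ _ hT'
    haveI := hi.1
    haveI : IsIso V.hom := hV
    have h1 : i = 1 := by
      haveI : IsIso (toUnit V) := by
        haveI : IsIso ((Over.forget _).map (toUnit V)) := by
          show IsIso (toUnit V).left
          rw [Over.toUnit_left]
          infer_instance
        exact isIso_of_reflects_iso _ (Over.forget _)
      have h3 : 𝟙 V = 1 := by
        rw [← cancel_mono (toUnit V)]
        exact toUnit_unique _ _
      rw [← Category.id_comp i, h3, MonObj.one_comp i]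
    have h4 : (1 : V ⟶ T') ≫ j = i := by rw [MonObj.one_comp j, h1]
    haveI := hi.2.2.2 T' j 1 hT' h4
    have h5 : IsIso ((1 : V ⟶ T').left) := inferInstance
    have h6 : T'.hom = inv ((1 : V ⟶ T').left) ≫ V.hom := by rw [← Over.w (1 : V ⟶ T'), IsIso.inv_hom_id_assoc]
    show IsIso T'.hom
    rw [h6]
    infer_instance
  obtain ⟨-, hs0, hc0, ha0⟩ := TorusPts.torus_props iS hS.2.2.1
  obtain ⟨hci, hs1, hc1, ha1⟩ := TorusPts.torus_props iT hT.2.2.1
  constructor
  · intro hG
    refine key iT hT ?_
    haveI : IsIso T₀.hom := hG T₀ iS hS.2.2.1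
    show IsIso T.hom
    haveI : Subsingleton T₀.left := (asIso T₀.hom).hom.homeomorph.injective.subsingleton
    haveI : Subsingleton T.left := hps.surj.subsingleton
    haveI : IsReduced T.left := GrpSch.isReduced_of_smooth_field T.hom
    have hη : IsClosedImmersion η[T].left := by
      haveI : IsClosedImmersion (η[T].left ≫ T.hom) := by
        rw [Over.w η[T]]
        exact inferInstanceAs (IsClosedImmersion (𝟙 _))
      exact IsClosedImmersion.of_comp η[T].left T.hom
    haveI : Surjective η[T].left := ⟨fun y => ⟨(IsLocalRing.closedPoint K : Spec (CommRingCat.of K)), Subsingleton.elim _ _⟩⟩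
    haveI := isIso_of_isClosedImmersion_of_surjective η[T].left
    have h : η[T].left ≫ T.hom = 𝟙 _ := Over.w η[T]
    rw [show T.hom = inv η[T].left from (IsIso.eq_inv_of_hom_inv_id h)]
    infer_instance
  · intro hH
    refine key iS hS ?_
    haveI : IsIso T.hom := hH T iT hT.2.2.1
    haveI : IsReduced T₀.left := GrpSch.isReduced_of_smooth_field T₀.hom
    have h1 : iS ≫ f = 1 := by
      haveI : IsIso ((Over.forget _).map (toUnit T)) := by
        show IsIso (toUnit T).left
        rw [Over.toUnit_left]
        infer_instance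
      haveI : IsIso (toUnit T) := isIso_of_reflects_iso _ (Over.forget _)
      have h2 : p = 1 := by rw [← cancel_mono (toUnit T)]; exact toUnit_unique _ _
      rw [← hp, h2, MonObj.one_comp iT]
    have h3 : iS = 1 := eq_one_of_comp_eq_one f η[T₀] iS (by
      rw [IsMonHom.one_hom, Hom.one_def, toUnit_unique (toUnit _) (𝟙 _), Category.id_comp]) h1
    have h4 : 𝟙 T₀ = (1 : T₀ ⟶ T₀) := by rw [← cancel_mono iS, Category.id_comp, MonObj.one_comp iS, h3]
    show IsIso T₀.hom
    refine ⟨η[T₀].left, ?_, Over.w η[T₀]⟩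
    have h5 := congrArg Over.Hom.left h4
    rw [Over.id_left, Hom.one_def, Over.comp_left, Over.toUnit_left] at h5
    exact h5.symm

theorem hasNoSubtorus_bc_iff {F : Type u} [Field F] {G H : Over (Spec (CommRingCat.of F))} [GrpObj G] [GrpObj H]
    [IsAffine G.left] [IsAffine H.left] [Smooth G.hom] [Smooth H.hom] [ConnectedSpace G.left] [ConnectedSpace H.left]
    (f : G ⟶ H) [IsMonHom f] [Surjective f.left] [IsFinite f.left]
    (K : Type u) [Field K] [IsAlgClosed K] [Algebra F K] [Algebra.IsAlgebraic F K] :
    Red.HasNoSubtorus K (Red.bc (Spec.map (CommRingCat.ofHom (algebraMap F K))) G) ↔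
      Red.HasNoSubtorus K (Red.bc (Spec.map (CommRingCat.ofHom (algebraMap F K))) H) := by
  obtain ⟨h1, h2, h3⟩ := FieldDescent.bc_props (K := K) G
  obtain ⟨h4, h5, h6⟩ := FieldDescent.bc_props (K := K) H
  haveI : Surjective ((Over.pullback (GrpSch.extBase F K)).map f).left :=
    GrpSch.bc_map_left_of (P := @Surjective) _ f ‹_›
  haveI : IsFinite ((Over.pullback (GrpSch.extBase F K)).map f).left :=
    GrpSch.bc_map_left_of (P := @IsFinite) _ f ‹_›
  exact hasNoSubtorus_iff_of_isogeny ((Over.pullback (GrpSch.extBase F K)).map f)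

end Groth.Agent.Lib.IsogLaw
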