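import Groth.Agent.Lib.IsogLaw.Basic
import Groth.Agent.Lib.IsogLaw.Torus
import Groth.Prelude.Def_Red2
import Groth.Agent.Lib.GrpQ.Image
import Groth.Agent.Lib.GrpQ.RedSubgroup
import Groth.Agent.Lib.GenSub.Connected
import Groth.Agent.Lib.GrpSch.Translate
import Groth.Agent.Lib.SchImage.Integral
import Groth.Agent.Lib.AffineCompl.Dim
import Groth.Agent.H1.Classical.Smooth
import Groth.Agent.H1.GrpIrred
import Groth.Agent.H54.ChevNoeth

/-!
# Smooth connected subgroups along finite surjective homomorphisms
-/

set_option autoImplicit false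
set_option linter.style.haveILetI false
set_option backward.isDefEq.respectTransparency false
universe u

open CategoryTheory CategoryTheory.Limits MonoidalCategory CartesianMonoidalCategory MonObj GrpObj AlgebraicGeometry

namespace Groth.Agent.Lib.IsogLaw

variable {K : Type u} [Field K] [IsAlgClosed K] {G H : Over (Spec (CommRingCat.of K))} [GrpObj G] [GrpObj H]

/-- The connected component of the unit of a group scheme locally of finite type, as a subgroup. -/
theorem exists_component (R : Over (Spec (CommRingCat.of K))) [GrpObj R] [LocallyOfFiniteType R.hom] :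
    ∃ (C : Over (Spec (CommRingCat.of K))) (_ : GrpObj C) (i : C ⟶ R), IsMonHom i ∧ IsOpenImmersion i.left ∧
      IsClosedImmersion i.left ∧ ConnectedSpace C.left ∧
      Set.range i.left = connectedComponent (η[R].left (IsLocalRing.closedPoint K)) := by
  have : IsLocallyNoetherian R.left := LocallyOfFiniteType.isLocallyNoetherian R.hom
  have : LocallyConnectedSpace R.left :=
    FinCond.locallyConnectedSpace_of_locally_noetherian fun x => FinCond.locally_noetherian R.left x
  let e := η[R].left (IsLocalRing.closedPoint K)
  let O : R.left.Opens := ⟨connectedComponent e, isOpen_connectedComponent⟩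
  let C : Over (Spec (CommRingCat.of K)) := Over.mk (O.ι ≫ R.hom)
  let i : C ⟶ R := Over.homMk O.ι rfl
  have hic : IsClosedImmersion i.left := by
    refine IsClosedImmersion.of_isPreimmersion O.ι ?_
    rw [Scheme.Opens.range_ι]
    exact isClosed_connectedComponent
  have : IsOpenImmersion i.left := inferInstanceAs (IsOpenImmersion O.ι)
  have : Mono i := (Over.forget _).mono_of_mono_map (show Mono i.left from inferInstance)
  have hconn : ConnectedSpace C.left := Subtype.connectedSpace isConnected_connectedComponent
  have hlift : ∀ {T : Over (Spec (CommRingCat.of K))} (q : T ⟶ R), Set.range q.left ⊆ connectedComponent e →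
      ∃ l : T ⟶ C, l ≫ i = q := by
    intro T q hq
    have hr : Set.range q.left ⊆ Set.range O.ι := by rw [Scheme.Opens.range_ι]; exact hq
    exact ⟨Over.homMk (IsOpenImmersion.lift O.ι q.left hr) (by
      show IsOpenImmersion.lift O.ι q.left hr ≫ O.ι ≫ R.hom = _
      rw [IsOpenImmersion.lift_fac_assoc, Over.w]), Over.OverMorphism.ext (IsOpenImmersion.lift_fac _ _ _)⟩
  have hη : Set.range η[R].left ⊆ connectedComponent e := by
    rintro _ ⟨p, rfl⟩
    rw [show η[R].left p = e from congrArg η[R].left (Subsingleton.elim (α := PrimeSpectrum K) _ _)]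
    exact mem_connectedComponent
  obtain ⟨one, hone⟩ := hlift η[R] hη
  have : ConnectedSpace (C ⊗ C).left := Groth.Agent.S5342.result K C.left C.left C.hom C.hom one.left (Over.w one)
  let p₀ : ↥(𝟙_ (Over (Spec (CommRingCat.of K)))).left := IsLocalRing.closedPoint K
  have honep : i.left (one.left p₀) = e := by
    rw [← Scheme.Hom.comp_apply, ← Over.comp_left, hone]
  have hsub : ∀ {T : Over (Spec (CommRingCat.of K))} [ConnectedSpace T.left] (q : T ⟶ R)
      (t : 𝟙_ (Over (Spec (CommRingCat.of K))) ⟶ T), t ≫ q = 1 → Set.range q.left ⊆ connectedComponent e := by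
    intro T _ q t ht
    refine (isPreconnected_range q.left.continuous).subset_connectedComponent ⟨t.left p₀, ?_⟩
    rw [← Scheme.Hom.comp_apply, ← Over.comp_left, ht, Hom.one_def, toUnit_unique (toUnit _) (𝟙 _), Category.id_comp]
  have hone' : one ≫ i = 1 := by
    rw [hone, Hom.one_def, toUnit_unique (toUnit _) (𝟙 _), Category.id_comp]
  obtain ⟨_, hi⟩ := GrpQ.InfSub.exists_grpObj_of_mono i ⟨one, hone⟩
    (hlift _ (hsub _ (lift one one) (by
      rw [MonObj.comp_mul, lift_fst_assoc, lift_snd_assoc, hone', _root_.mul_one])))
    (hlift _ (hsub _ one (by rw [GrpObj.comp_inv, hone', inv_one])))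
  exact ⟨C, inferInstance, i, hi, inferInstance, hic, hconn, Scheme.Opens.range_ι _⟩

/-- Images of smooth connected subgroups under a homomorphism with finite kernel. -/
theorem exists_down [LocallyOfFiniteType G.hom] [QuasiCompact G.hom] [LocallyOfFiniteType H.hom]
    (f : G ⟶ H) [IsMonHom f] [IsFinite f.left] {U : Over (Spec (CommRingCat.of K))} [GrpObj U] (i : U ⟶ G)
    [IsMonHom i] [IsClosedImmersion i.left] [Smooth U.hom] [ConnectedSpace U.left] :
    ∃ (V : Over (Spec (CommRingCat.of K))) (_ : GrpObj V) (j : V ⟶ H) (p : U ⟶ V),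
      IsMonHom j ∧ IsClosedImmersion j.left ∧ IsMonHom p ∧ IsFinite p.left ∧ Surjective p.left ∧
      Smooth V.hom ∧ ConnectedSpace V.left ∧ topologicalKrullDim U.left = topologicalKrullDim V.left ∧
      (IsAffine U.left → IsAffine V.left) := by
  haveI : QuasiCompact U.hom := by rw [← Over.w i]; infer_instance
  haveI : IsReduced U.left := GrpSch.isReduced_of_smooth_field U.hom
  obtain ⟨V, _, p, j, hp, hj, hpj, hstd, hjc⟩ := GrpQ.Image.exists_image (i ≫ f)
  haveI : IsFinite (p.left ≫ j.left) := by
    rw [← Over.comp_left, hpj, Over.comp_left]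
    infer_instance
  haveI : IsFinite p.left := IsFinite.of_comp p.left j.left
  haveI : Surjective p.left := ⟨by
    rw [← Set.range_eq_univ, ← p.left.isClosedMap.isClosed_range.closure_eq]
    exact p.left.denseRange.closure_range⟩
  haveI : LocallyOfFiniteType V.hom := by rw [← Over.w j]; infer_instance
  haveI : QuasiCompact V.hom := by
    haveI : CompactSpace U.left := QuasiCompact.compactSpace_of_compactSpace U.hom
    haveI : CompactSpace V.left := p.left.surjective.compactSpace p.left.continuous
    infer_instance
  haveI : IsReduced V.left := by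
    exact ⟨fun W => isReduced_of_injective (p.left.app W).hom (p.left.app_injective W)⟩
  haveI : GrpObj (Over.mk V.hom) := inferInstanceAs (GrpObj V)
  haveI : Smooth V.hom := H1.Classical.Smooth.smooth_of_isReduced V.hom
  refine ⟨V, inferInstance, j, p, hj, hjc, hp, inferInstance, inferInstance, inferInstance,
    p.left.surjective.connectedSpace p.left.continuous,
    AffineCompl.Dim.topologicalKrullDim_of_finite_surjective p.left p.left.surjective, fun _ => ?_⟩
  haveI : IsLocallyNoetherian V.left := LocallyOfFiniteType.isLocallyNoetherian V.hom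
  haveI : CompactSpace V.left := QuasiCompact.compactSpace_of_compactSpace V.hom
  haveI : IsNoetherian V.left := {}
  exact H54.ChevNoeth.isAffine_of_finite_surjective p.left

/-- Smooth connected subgroups of the target lift along a finite surjective homomorphism. -/
theorem exists_up [LocallyOfFiniteType G.hom] [QuasiCompact G.hom] [LocallyOfFiniteType H.hom]
    (f : G ⟶ H) [IsMonHom f] [IsFinite f.left] [Surjective f.left] {V : Over (Spec (CommRingCat.of K))}
    [GrpObj V] (j : V ⟶ H) [IsMonHom j] [IsClosedImmersion j.left] [Smooth V.hom] [ConnectedSpace V.left] :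
    ∃ (U : Over (Spec (CommRingCat.of K))) (_ : GrpObj U) (i : U ⟶ G) (p : U ⟶ V),
      IsMonHom i ∧ IsClosedImmersion i.left ∧ IsMonHom p ∧ IsFinite p.left ∧ Surjective p.left ∧
      Smooth U.hom ∧ ConnectedSpace U.left ∧ topologicalKrullDim U.left = topologicalKrullDim V.left := by
  let P := pullback f j
  let π₁ : P ⟶ G := pullback.fst f j
  let π₂ : P ⟶ V := pullback.snd f j
  have sq := (IsPullback.of_hasPullback f j).map (Over.forget _)
  haveI : IsClosedImmersion π₁.left := MorphismProperty.of_isPullback (P := @IsClosedImmersion) sq.flip ‹_›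
  haveI : IsFinite π₂.left := MorphismProperty.of_isPullback (P := @IsFinite) sq ‹_›
  haveI : Surjective π₂.left := MorphismProperty.of_isPullback (P := @Surjective) sq ‹_›
  haveI : Mono π₁ := Over.mono_of_mono_left π₁
  have hc : π₁ ≫ f = π₂ ≫ j := pullback.condition
  have hlift : ∀ {T : Over (Spec (CommRingCat.of K))} (x : T ⟶ G) (y : T ⟶ V), x ≫ f = y ≫ j →
      ∃ l : T ⟶ P, l ≫ π₁ = x := fun x y h => ⟨pullback.lift x y h, pullback.lift_fst _ _ _⟩
  obtain ⟨_, hπ₁⟩ := GrpQ.InfSub.exists_grpObj_of_mono π₁
    (hlift η[G] η[V] (by rw [IsMonHom.one_hom, IsMonHom.one_hom]))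
    (hlift _ ((fst P P ≫ π₂) * (snd P P ≫ π₂)) (by
      rw [MonObj.mul_comp _ _ f, MonObj.mul_comp _ _ j, Category.assoc, Category.assoc, hc, Category.assoc,
        Category.assoc]))
    (hlift _ π₂⁻¹ (by rw [GrpObj.inv_comp _ f, GrpObj.inv_comp _ j, hc]))
  haveI : Mono j := Over.mono_of_mono_left j
  haveI : IsMonHom π₂ := GrpQ.DomFlat.isMonHom_of_comp_mono π₂ j (by rw [← hc]; infer_instance)
  haveI : LocallyOfFiniteType P.hom := by rw [← Over.w π₁]; infer_instance
  haveI : QuasiCompact P.hom := by rw [← Over.w π₁]; infer_instance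
  obtain ⟨R, _, r, hr, hrc, hrs, hRr⟩ := GrpQ.RedSubgroup.exists_reduced_subgroup P
  haveI : LocallyOfFiniteType R.hom := by rw [← Over.w r]; infer_instance
  haveI : QuasiCompact R.hom := by rw [← Over.w r]; infer_instance
  obtain ⟨C, _, c, hcm, hco, hcc, hCconn, hrange⟩ := exists_component R
  haveI : LocallyOfFiniteType C.hom := by rw [← Over.w c]; infer_instance
  haveI : IsReduced C.left := isReduced_of_isOpenImmersion c.left
  haveI : GrpObj (Over.mk C.hom) := inferInstanceAs (GrpObj C)
  haveI : Smooth C.hom := H1.Classical.Smooth.smooth_of_isReduced C.hom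
  let q : R ⟶ V := r ≫ π₂
  haveI : IsFinite q.left := by rw [Over.comp_left]; infer_instance
  haveI : Surjective q.left := by rw [Over.comp_left]; infer_instance
  haveI : QuasiCompact V.hom := by
    haveI : CompactSpace R.left := QuasiCompact.compactSpace_of_compactSpace R.hom
    haveI : CompactSpace V.left := q.left.surjective.compactSpace q.left.continuous
    infer_instance
  haveI : IrreducibleSpace V.left := H1.GrpIrred.irreducibleSpace_of_isAlgClosed (G := V)
  let e := η[R].left (IsLocalRing.closedPoint K)
  let Z : Set V.left := q.left '' connectedComponent e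
  have hZ : IsClosed Z := q.left.isClosedMap _ isClosed_connectedComponent
  have hZuniv : Z = Set.univ := by
    obtain ⟨z, hz⟩ := q.left.surjective (genericPoint V.left)
    have : JacobsonSpace R.left := LocallyOfFiniteType.jacobsonSpace R.hom
    obtain ⟨x, hx, hxc⟩ := nonempty_inter_closedPoints (X := R.left) (Z := closure {z})
      ⟨z, subset_closure rfl⟩ isClosed_closure.isLocallyClosed
    let g : 𝟙_ (Over (Spec (CommRingCat.of K))) ⟶ R :=
      Over.homMk (pointOfClosedPoint R.hom x hxc) (pointOfClosedPoint_comp R.hom x hxc)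
    have hgx : g.left (IsLocalRing.closedPoint K) = x := pointOfClosedPoint_apply R.hom x hxc _
    let L := (GrpSch.translate (GrpSch.regularAction R) g).hom
    let L' := (GrpSch.translate (GrpSch.regularAction V) (g ≫ q)).hom
    haveI : IsIso L.left := ((Over.forget _).mapIso (GrpSch.translate (GrpSch.regularAction R) g)).isIso_hom
    haveI : IsIso L'.left := ((Over.forget _).mapIso (GrpSch.translate (GrpSch.regularAction V) (g ≫ q))).isIso_hom
    have hLe : L.left e = x := by
      have h1 : η[R] ≫ L = g := by
        have h2 : η[R] = (1 : 𝟙_ (Over (Spec (CommRingCat.of K))) ⟶ R) := by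
          rw [Hom.one_def, toUnit_unique (toUnit _) (𝟙 _), Category.id_comp]
        rw [h2, GrpSch.translate_regular_apply, _root_.mul_one]
      rw [← hgx, ← h1, Over.comp_left, Scheme.Hom.comp_apply]
    have hzmem : z ∈ L.left '' connectedComponent e := by
      have h1 : connectedComponent z = connectedComponent x :=
        (connectedComponent_eq (closure_minimal (Set.singleton_subset_iff.2 mem_connectedComponent)
          isClosed_connectedComponent hx))
      have hh := L.left.homeomorph
      have h2 : L.left '' connectedComponent e = connectedComponent x := by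
        rw [← hLe]
        refine Set.Subset.antisymm (L.left.continuous.image_connectedComponent_subset e) fun y hy => ?_
        refine ⟨L.left.homeomorph.symm y, ?_, L.left.homeomorph.apply_symm_apply y⟩
        have h := L.left.homeomorph.symm.continuous.image_connectedComponent_subset (L.left e) ⟨y, hy, rfl⟩
        rwa [show L.left.homeomorph.symm (L.left e) = e from L.left.homeomorph.symm_apply_apply e] at h
      rw [h2, ← h1]
      exact mem_connectedComponent
    obtain ⟨w, hw, hwz⟩ := hzmem
    have h3 : genericPoint V.left ∈ L'.left '' Z := by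
      refine ⟨q.left w, ⟨w, hw, rfl⟩, ?_⟩
      rw [← hz, ← hwz, ← Scheme.Hom.comp_apply, ← Scheme.Hom.comp_apply, ← Over.comp_left, ← Over.comp_left,
        show L ≫ q = q ≫ L' from GrpSch.hom_translate_comm q g]
    have h4 : L'.left '' Z = Set.univ := by
      refine Set.eq_univ_of_univ_subset ?_
      rw [← show closure {genericPoint V.left} = Set.univ from genericPoint_spec V.left]
      exact closure_minimal (Set.singleton_subset_iff.2 h3) (L'.left.homeomorph.isClosedMap _ hZ)
    refine (Set.image_injective.2 L'.left.homeomorph.injective) (h4.trans ?_)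
    exact (Set.image_univ_of_surjective L'.left.homeomorph.surjective).symm
  let p : C ⟶ V := c ≫ q
  haveI : IsFinite p.left := by rw [Over.comp_left]; infer_instance
  haveI : Surjective p.left := ⟨fun v => by
    obtain ⟨w, hw, hwv⟩ := (Set.ext_iff.1 hZuniv v).2 trivial
    rw [← hrange] at hw
    obtain ⟨a, rfl⟩ := hw
    exact ⟨a, by rw [Over.comp_left, Scheme.Hom.comp_apply, hwv]⟩⟩
  exact ⟨C, inferInstance, c ≫ r ≫ π₁, p, inferInstance, by rw [Over.comp_left, Over.comp_left]; infer_instance,
    inferInstance, inferInstance, inferInstance, inferInstance, hCconn,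
    AffineCompl.Dim.topologicalKrullDim_of_finite_surjective p.left p.left.surjective⟩

/-- Solvability along finite surjective homomorphisms of smooth connected groups. -/
theorem isSolvableGrp_iff {U V : Over (Spec (CommRingCat.of K))} [GrpObj U] [GrpObj V] [Smooth U.hom] [Smooth V.hom]
    [QuasiCompact U.hom] [QuasiCompact V.hom] [IsSeparated U.hom] [ConnectedSpace U.left]
    (p : U ⟶ V) [IsMonHom p] [IsFinite p.left] [Surjective p.left] :
    Red.IsSolvableGrp U ↔ Red.IsSolvableGrp V := by
  haveI : Flat p.left := GrpQ.flat_of_surjective_of_smooth p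
  haveI : LocallyOfFinitePresentation p.left :=
    Flat55.FibreTransfer.locallyOfFinitePresentation_of_comp (g := V.hom)
      (by rw [Over.w p]; infer_instance) inferInstance
  constructor
  · rintro ⟨n, hn⟩
    refine ⟨n, fun X => (GrpQ.derivedSeries_eq_bot_iff n).2 fun v => ?_⟩
    exact law_target p (idx := GrpQ.DerI n) (F := fun v => GrpQ.derW n v) (fun φ v => GrpQ.map_derW φ n v)
      (fun Y v => (GrpQ.derivedSeries_eq_bot_iff n).1 (hn Y) v) X v
  · rintro ⟨n, hn⟩
    refine ⟨n, fun X => (GrpQ.derivedSeries_eq_bot_iff n).2 fun v => ?_⟩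
    exact law_source p (idx := GrpQ.DerI n) (F := fun v => GrpQ.derW n v) (fun φ v => GrpQ.map_derW φ n v)
      (fun Y v => (GrpQ.derivedSeries_eq_bot_iff n).1 (hn Y) v) X v

end Groth.Agent.Lib.IsogLaw
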